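import Cfsg.Agent.BR.L1
import Cfsg.Agent.TUR.G1

/-! The main lemma on 2-elements with vanishing norm. -/

set_option autoImplicit false
set_option linter.unusedSectionVars false

namespace Cfsg.Agent.BR

open Subgroup H49 H79 FLAV Module Finset
open scoped commutatorElement

universe u

variable {K : Type*} [Field K] {V : Type*} [AddCommGroup V] [Module K V] [IsAlgClosed K]
  [FiniteDimensional K V] [CharP K 2] {X : Type u} [Group X] [Finite X]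

section
variable {Q : Subgroup X} {σ : Q →* End K V} {q k : ℕ} [hq : Fact q.Prime]
  {W : Type*} [AddCommGroup W] [Module (ZMod q) W] [Finite W] {φ : stabS σ →* End (ZMod q) W}
  {ε : X → W}

theorem form (hσ : Irr σ) (hcl : ⁅Q, Q⁆ ≤ radS σ)
    (hsec : SecRep (stabS σ).subtype Q (radS σ) φ ε) (s : stabS σ) {g h : Q}
    (hg : φ s (ε g) = ε g) (hh : φ s (ε h) = -ε h) : σ ⁅g, h⁆ = 1 := by
  obtain ⟨hs, hS⟩ := mem_stabS.1 s.2
  have e1 : cjAut Q hs g * g⁻¹ ∈ rad σ := coe_mem_radS.1 ((hsec.eq_iff (cjAut Q hs g).2 g.2).1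
    ((hsec.conj s g g.2).symm.trans hg))
  have e2 : cjAut Q hs h * h⁻¹⁻¹ ∈ rad σ := coe_mem_radS.1
    ((hsec.eq_iff (cjAut Q hs h).2 h⁻¹.2).1 ((hsec.conj s h h.2).symm.trans (hh.trans
      (hsec.inv h.2).symm)))
  have hc : ∀ a b : Q, ⁅a, b⁆ ∈ rad σ := fun a b =>
    coe_mem_radS.1 (hcl (commutator_mem_commutator a.2 b.2))
  have cj : ∀ r x : Q, x ∈ rad σ ∨ r ∈ rad σ → σ (r * x * r⁻¹) = σ x := fun r x e => by
    rw [map_mul, map_mul, e.elim (fun e => (e r).symm) (fun e => e x), mul_assoc, ← map_mul,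
      mul_inv_cancel, map_one, mul_one]
  have l1 : ∀ r ∈ rad σ, ∀ a b : Q, σ ⁅r * a, b⁆ = σ ⁅a, b⁆ := fun r hr a b => by
    rw [show ⁅r * a, b⁆ = r * ⁅a, b⁆ * r⁻¹ * ⁅r, b⁆ by group, map_mul, mem_rad_iff_comm.1 hr, mul_one,
      cj _ _ (.inr hr)]
  have l2 : ∀ r ∈ rad σ, ∀ a b : Q, σ ⁅a, r * b⁆ = σ ⁅a, b⁆ := fun r hr a b => by
    rw [show ⁅a, r * b⁆ = ⁅r⁻¹, r * a * r⁻¹⁆ * (r * ⁅a, b⁆ * r⁻¹) by group, map_mul,
      mem_rad_iff_comm.1 (inv_mem hr), one_mul, cj _ _ (.inr hr)]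
  have e3 := hσ.res_cj hs hS (g := ⁅g, h⁆) (coe_mem_radS.2 (hc g h))
  rw [map_commutatorElement, ← inv_mul_cancel_right (cjAut Q hs g) g,
    ← inv_mul_cancel_right (cjAut Q hs h) h⁻¹, l1 _ e1, l2 _ e2,
    show ⁅g, h⁻¹⁆ = h⁻¹ * ⁅g, h⁆⁻¹ * h⁻¹⁻¹ by group, cj _ _ (.inl (inv_mem (hc g h)))] at e3
  obtain ⟨c, hc'⟩ := hσ.smul_of_mem_rad (hc g h)
  have e4 : σ ⁅g, h⁆ * σ ⁅g, h⁆ = 1 := by
    nth_rewrite 1 [← e3]; rw [← map_mul, inv_mul_cancel, map_one]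
  rw [hc'] at e4 ⊢
  have e5 : (c - 1) ^ 2 = c * c - 1 := by rw [sub_pow_char, one_pow, pow_two]
  ext v
  have := LinearMap.congr_fun e4 v
  simp only [End.mul_apply, LinearMap.smul_apply, End.one_apply, smul_smul] at this ⊢
  by_contra h0
  have h1 : c - 1 ≠ 0 := fun e => h0 (by rw [sub_eq_zero.1 e, one_smul])
  have h2 : (c - 1) ^ 2 • v = 0 := by rw [e5, sub_smul, this, one_smul, sub_self]
  rw [(smul_eq_zero.1 h2).resolve_left (pow_ne_zero 2 h1)] at h0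
  exact h0 (smul_zero c)

theorem sp_of (hσ : Irr σ) (hcl : ⁅Q, Q⁆ ≤ radS σ)
    (hsec : SecRep (stabS σ).subtype Q (radS σ) φ ε) (h2 : (2 : ZMod q) ≠ 0) {a t : stabS σ ⧸ φ.ker}
    (h : Refl (fth φ) k a t) : SP (fth φ) t := fun u hu hut => by
  by_contra hne
  push Not at hne
  obtain ⟨⟨w, hw, hw'⟩, w', hv, hv'⟩ := hne
  set ρ := fth φ
  have a1 : ρ t (w' + ρ u w') = -(w' + ρ u w') := by
    rw [map_add, ← rep_comm hut, hv, map_neg, neg_add]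
  have a2 : ρ u (w' + ρ u w') = w' + ρ u w' := by rw [map_add, rep_invol hu, add_comm]
  have a3 : w' + ρ u w' ≠ 0 := fun e => hv' (eq_neg_of_add_eq_zero_right e)
  have b1 : ρ t (w - ρ u w) = -(w - ρ u w) := by rw [map_sub, ← rep_comm hut, hw, map_neg]; abel
  have b2 : ρ u (w - ρ u w) = -(w - ρ u w) := by rw [map_sub, rep_invol hu, neg_sub]
  have b3 : w - ρ u w ≠ 0 := fun e => hw' (sub_eq_zero.1 e).symm
  generalize w' + ρ u w' = w₁ at *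
  generalize w - ρ u w = w₂ at *
  have hli : ∀ x y : ZMod q, x • w₁ + y • w₂ = 0 → x = 0 ∧ y = 0 := fun x y e => by
    have e' := congrArg (ρ u) e
    rw [map_add, map_smul, map_smul, a2, b2, map_zero] at e'
    have h3 : (2 * x) • w₁ = 0 := by linear_combination (norm := module) e + e'
    obtain rfl : x = 0 := (mul_eq_zero.1 ((smul_eq_zero.1 h3).resolve_right a3)).resolve_left h2
    exact ⟨rfl, (smul_eq_zero.1 (by simpa using e)).resolve_right b3⟩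
  obtain ⟨E, h1, h3⟩ := h.dim
  have h4 : Submodule.span (ZMod q) (Set.range ![w₁, w₂]) = E := Submodule.eq_of_le_of_finrank_le
    (Submodule.span_le.2 (by rintro _ ⟨i, rfl⟩; fin_cases i; exacts [h3 _ a1, h3 _ b1]))
    (by rw [finrank_span_eq_card (LinearIndependent.pair_iff.2 hli)]; simpa using h1)
  obtain ⟨g, hg, rfl⟩ := hsec.surj w₁
  obtain ⟨τ, rfl⟩ := QuotientGroup.mk'_surjective _ t
  obtain ⟨υ, rfl⟩ := QuotientGroup.mk'_surjective _ u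
  have hL : ∀ h : Q, σ ⁅h, ⟨g, hg⟩⁆ = 1 → (h : X) ∈ perpS σ {g} := fun h e =>
    coe_mem_perpS.2 fun c hc => (Subtype.ext hc : c = ⟨g, hg⟩) ▸ e
  let Λ : Submodule (ZMod q) W := AddSubgroup.toZModSubmodule q
    { carrier := {w | ∃ h ∈ perpS σ {g}, ε h = w}
      zero_mem' := ⟨1, one_mem _, hsec.one⟩
      add_mem' := by
        rintro _ _ ⟨a, ha, rfl⟩ ⟨b, hb, rfl⟩
        exact ⟨_, mul_mem ha hb, hsec.mul _ (perpS_le ha) _ (perpS_le hb)⟩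
      neg_mem' := by
        rintro _ ⟨a, ha, rfl⟩
        exact ⟨_, inv_mem ha, hsec.inv (perpS_le ha)⟩ }
  have c1 : E ≤ Λ := h4 ▸ Submodule.span_le.2 (by
    rintro _ ⟨i, rfl⟩
    fin_cases i
    · exact ⟨g, hL ⟨g, hg⟩ (by simp), rfl⟩
    obtain ⟨g', hg', rfl⟩ := hsec.surj w₂
    refine ⟨g', hL ⟨g', hg'⟩ ?_, rfl⟩
    rw [← commutatorElement_inv, ← mul_one (σ _), ← form hσ hcl hsec υ (g := ⟨g, hg⟩) (h := ⟨g', hg'⟩)
      a2 b2, ← map_mul, inv_mul_cancel, form hσ hcl hsec υ (g := ⟨g, hg⟩) (h := ⟨g', hg'⟩) a2 b2,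
      map_one])
  refine a3 ((hsec.zero g hg).2 ((coe_mem_radS (g := ⟨g, hg⟩)).2 fun k => ?_))
  have c2 : ε k ∈ Λ := by
    have e : ε k = (2⁻¹ : ZMod q) • ((ε k + φ τ (ε k)) + (ε k - φ τ (ε k))) := by
      rw [add_add_sub_cancel, ← two_smul (ZMod q), smul_smul, inv_mul_cancel₀ h2, one_smul]
    rw [e]
    refine Λ.smul_mem _ (add_mem ?_ (c1 (h3 _ ?_)))
    · obtain ⟨g', hg', e'⟩ := hsec.surj (ε k + φ τ (ε k))
      refine ⟨g', hL ⟨g', hg'⟩ (form hσ hcl hsec τ ?_ a1), e'⟩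
      rw [e', map_add, add_comm]
      exact congrArg (· + _) (rep_invol h.sq (ρ := ρ) (ε k)) |>.trans (add_comm _ _) |>.trans
        (add_comm _ _)
    · rw [map_sub, neg_sub]
      exact congrArg (_ - ·) (rep_invol h.sq (ρ := ρ) (ε k))
  obtain ⟨k', hk', e⟩ := c2
  have := mul_mem (radS_le_perpS (C := {g}) ((hsec.eq_iff k.2 (perpS_le hk')).1 e.symm)) hk'
  rw [inv_mul_cancel_right] at this
  exact coe_mem_perpS'.1 this ⟨g, hg⟩ rfl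

theorem ex_sec [Nontrivial V] (hq2 : 2 ≠ q) (hQ : IsPGroup q Q) (hqK : (q : K) ≠ 0) (hσ : Irr σ)
    (hcl : ⁅Q, Q⁆ ≤ radS σ) {s : X} (hs : s ∈ 𝒩(Q)) (hsn : s ^ 2 ^ (k + 1) = 1) {b : End K V}
    (hb : ∀ g, b * σ g = σ (cjAut Q hs g) * b) (hbn : b ^ 2 ^ (k + 1) = 1)
    (h0 : ∑ i ∈ range (2 ^ (k + 1)), b ^ i = 0)
    (hsec : SecRep (stabS σ).subtype Q (radS σ) φ ε) (hsS : s ∈ stabS σ) :
    QuotientGroup.mk' φ.ker ⟨s, hsS⟩ ^ 2 ^ k = 1 ∨ Ex (fth φ) k (QuotientGroup.mk' φ.ker ⟨s, hsS⟩)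
      (QuotientGroup.mk' φ.ker ⟨s, hsS⟩ ^ 2 ^ k) := by
  obtain ⟨hτ, hτS⟩ := mem_stabS.1 (pow_mem hsS (2 ^ k))
  rw [← map_pow]
  by_cases hE : perpS σ 𝒞[s ^ 2 ^ k] ≤ radS σ
  · exact .inl ((QuotientGroup.eq_one_iff _).2 ((hsec.eq_one_iff _).2
      fun u hu => hE (hσ.comm_mem_perpS hcl hτ hτS hu)))
  obtain ⟨⟨m, hm, hqm, hi⟩, hcen⟩ := hσ.exc_char hq.out hq2 hQ hqK hcl hs hsn hb hbn h0 hE
  obtain rfl : m = 1 := by
    rcases S3784.result 2 q (k + 1) m Nat.prime_two hq.out (by omega) hm hqm with h | h | h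
    · exact h.2.1
    · exact absurd h.1.symm hq2
    · have := h.1; rw [pow_succ] at this; omega
  rw [pow_one] at hqm
  have hk : 1 ≤ k := by
    by_contra h
    obtain rfl : k = 0 := by omega
    have := hq.out.one_lt
    omega
  have h4 : s ^ 2 ^ k * s ^ 2 ^ k = 1 := by rw [← pow_two, ← pow_mul, ← pow_succ, hsn]
  have h2 := two_ne hqm
  suffices h : Refl (fth φ) k (QuotientGroup.mk' φ.ker ⟨s, hsS⟩)
    (QuotientGroup.mk' φ.ker (⟨s, hsS⟩ ^ 2 ^ k)) from .inr ⟨h, hk, hqm, sp_of hσ hcl hsec h2 h⟩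
  refine ⟨(map_pow _ _ _).symm, by
    rw [← map_mul, show _ * _ = (1 : stabS σ) from Subtype.ext h4, map_one],
      LinearMap.ext fun v => ?_, LinearMap.range (φ (⟨s, hsS⟩ ^ 2 ^ k) - 1),
      hsec.finrank_le perpS_le hi ?_, fun v hv => ⟨(-2⁻¹ : ZMod q) • v, ?_⟩⟩
  · obtain ⟨u, hu, rfl⟩ := hsec.surj v
    have h1 := conj_mem_of_normalizer hτ hu
    obtain ⟨r, hr, h3⟩ := lift_cent1 hτ (mem_norm_radS _ hτS) (coprime_orderOf_of_pow (n := 1)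
      (by rw [pow_one, pow_two, h4]) (coprime_of_pgroup Nat.prime_two hq.out hq2 (hQ.to_le radS_le)))
      (mul_mem h1 hu) (by
        rw [cj_norm_invol h4]
        exact hcl (commutator_mem_commutator (inv_mem hu) (inv_mem h1)))
    rw [fth_mk, fth_mk, End.mul_apply, LinearMap.add_apply, hsec.conj _ _ hu, End.one_apply,
      ← add_zero (_ + ε u), ← (hsec.zero _ hr.2).2 hr.1]
    simp only [Subgroup.subtype_apply, Subgroup.coe_pow]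
    rw [← hsec.mul _ h1 _ hu, ← hsec.mul _ (mul_mem h1 hu) _ hr.2,
      hsec.sub_one_apply _ (mul_mem (mul_mem h1 hu) hr.2)]
    have h5 := hcen _ ⟨mul_mem (mul_mem h1 hu) hr.2, h3⟩
    exact (hsec.zero _ (radS_le h5)).2 h5
  · rintro _ ⟨v, rfl⟩
    obtain ⟨u, hu, rfl⟩ := hsec.surj v
    exact ⟨_, hσ.comm_mem_perpS hcl hτ hτS hu, (hsec.sub_one_apply (⟨s, hsS⟩ ^ 2 ^ k) hu).symm⟩
  · rw [fth_mk] at hv
    rw [map_smul, LinearMap.sub_apply, hv, End.one_apply, ← neg_add', ← two_smul (ZMod q), smul_neg,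
      smul_smul, neg_mul, inv_mul_cancel₀ h2, neg_smul, neg_neg, one_smul]

end

/-- A 2-group acting trivially on all the sections `Q / rad` centralizes `Q`. -/
theorem cent_of_sec (ρ : X →* End K V) (hρ : Function.Injective ρ) {Q P : Subgroup X} {q : ℕ}
    [hq : Fact q.Prime] (hq2 : 2 ≠ q) (hQ : IsPGroup q Q) (hcl : ⁅Q, Q⁆ ≤ 𝒞(Q))
    (hexp : ∀ u ∈ Q, u ^ q = 1) (hP : IsPGroup 2 P) (hPQ : P ≤ 𝒩(Q))
    (h : ∀ (U : Submodule K V) (hU : Inv (ρ.comp Q.subtype) U), U ≠ ⊥ → Irr hU.res →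
      ∀ (W : Type u) [AddCommGroup W] [Module (ZMod q) W] [Finite W]
        (φ : stabS hU.res →* End (ZMod q) W) (ε : X → W),
        SecRep (stabS hU.res).subtype Q (radS hU.res) φ ε →
        ∀ w ∈ P, ∃ hw : w ∈ stabS hU.res, φ ⟨w, hw⟩ = 1) : P ≤ 𝒞(Q) := fun w hw g hg => by
  have hqK : (q : K) ≠ 0 := fun h => hq2
    ((Nat.prime_dvd_prime_iff_eq Nat.prime_two hq.out).1 ((CharP.cast_eq_zero_iff K 2 q).1 h))
  haveI := Fintype.ofFinite Q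
  have hK := card_ne_zero_of_pgroup hq.out hqK hQ
  refine (mul_inv_eq_iff_eq_mul.1 (hρ (by_contra fun hne => ?_))).symm
  obtain ⟨U, hU, hU0, hUi, hne'⟩ := exists_irr_ne (ρ.comp Q.subtype) hK
    (g := cjAut Q (hPQ hw) ⟨g, hg⟩) (k := ⟨g, hg⟩) hne
  have hcl' : ⁅Q, Q⁆ ≤ radS hU.res := (le_inf der_le hcl).trans cent_le_radS
  obtain ⟨W, _, _, _, φ, ε, hsec⟩ := exists_secRep (r := q) (stabS hU.res).subtype (U := Q)
    (W := radS hU.res) (fun a => (mem_stabS.1 a.2).1) (fun a => mem_norm_radS _ (mem_stabS.1 a.2).2)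
    radS_le hcl' fun u hu => hexp u hu ▸ one_mem _
  obtain ⟨hwS, h4⟩ := h U hU hU0 hUi W φ ε hsec w hw
  obtain ⟨_, hwS'⟩ := mem_stabS.1 hwS
  obtain ⟨j, hj⟩ := hP ⟨w, hw⟩
  obtain ⟨r, hr, h5⟩ := lift_cent1 (hPQ hw) (mem_norm_radS _ hwS') (coprime_orderOf_of_pow
    (congrArg Subtype.val hj) (coprime_of_pgroup Nat.prime_two hq.out hq2 (hQ.to_le radS_le))) hg (by
      have := conj_mem_of_normalizer (norm_radS (inv_mem hg)) ((hsec.eq_one_iff _).1 h4 g hg)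
      simpa [commutatorElement_def, mul_assoc] using this)
  have h6 : cjAut Q (hPQ hw) (⟨g, hg⟩ * ⟨r, hr.2⟩) = ⟨g, hg⟩ * ⟨r, hr.2⟩ :=
    Subtype.ext (mul_inv_eq_iff_eq_mul.2 (mem_cent1.1 h5).symm)
  refine hne' ?_
  rw [← mul_inv_cancel_right (⟨g, hg⟩ : Q) ⟨r, hr.2⟩, map_mul, map_mul, map_mul hU.res (_ * _)]
  exact congrArg₂ (· * ·) (congrArg hU.res h6)
    (hUi.res_cj _ hwS' (g := (⟨r, hr.2⟩ : Q)⁻¹) (inv_mem hr.1))

theorem two_elt {P : Subgroup X} (hP : IsPGroup 2 P) {x v : X} (hx : x ∈ 𝒩(P))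
    (h : ∃ k, x ^ 2 ^ k = 1) (hv : v ∈ P) : ∃ k, (v * x) ^ 2 ^ k = 1 := by
  obtain ⟨k, hk⟩ := h
  obtain ⟨j, hj⟩ := hP ⟨_, pow_mul_mem hx hv (2 ^ k)⟩
  exact ⟨k + j, by simpa [hk, pow_add, pow_mul] using congrArg Subtype.val hj⟩

/-- The main lemma. -/
theorem ml (ρ : X →* End K V) (hρ : Function.Injective ρ) {n : ℕ}
    (h0 : ∀ y : X, (∃ k, y ^ 2 ^ k = 1) → ∑ i ∈ range (2 ^ (n + 1)), ρ y ^ i = 0)
    {Q P N : Subgroup X} {q : ℕ} [hq : Fact q.Prime] (hq2 : 2 ≠ q) (hQ : IsPGroup q Q)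
    (hcl : ⁅Q, Q⁆ ≤ 𝒞(Q)) (hexp : ∀ u ∈ Q, u ^ q = 1) (hP : Cl P) (hPQ : P ≤ 𝒩(Q)) (hNQ : N ≤ 𝒩(Q))
    (hNP : N ≤ 𝒩(P)) (hmin : ∀ R < P, N ≤ 𝒩(R) → R ≤ ⁅P, P⁆) {x v : X} (hx : x ∈ N)
    (hx2 : ∃ k, x ^ 2 ^ k = 1) (hv : v ∈ P) (hy : (v * x) ^ 2 ^ n * (x ^ 2 ^ n)⁻¹ ∉ ⁅P, P⁆) :
    P ≤ 𝒞(Q) := by
  have he : ∀ y : X, (∃ k, y ^ 2 ^ k = 1) → y ^ 2 ^ (n + 1) = 1 := fun y hy => hρ (by
    rw [map_pow, map_one, ← sub_eq_zero, ← mul_geom_sum, h0 y hy, mul_zero])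
  let Y : Set X := {y | ∃ x ∈ N, (∃ k, x ^ 2 ^ k = 1) ∧ ∃ v ∈ P, y = (v * x) ^ 2 ^ n * (x ^ 2 ^ n)⁻¹}
  have hYP : Subgroup.closure Y ≤ P := (closure_le _).2 (by
    rintro _ ⟨x, hx, -, v, hv, rfl⟩; exact pow_mul_mem (hNP hx) hv _)
  have hY : Subgroup.closure Y = P := by_contra fun e => hy (hmin _ (lt_of_le_of_ne hYP e)
    (fun g hg => mem_norm_of_cj_le (by
      rw [cj_def, MonoidHom.map_closure, closure_le]
      rintro _ ⟨_, ⟨x, hx, h1, v, hv, rfl⟩, rfl⟩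
      exact Subgroup.subset_closure ⟨g * x * g⁻¹, mul_mem (mul_mem hg hx) (inv_mem hg),
        h1.imp fun k hk => by simp [conj_pow, hk], _, cj_mem (hNP hg) hv, by
          rw [conj_mul, conj_pow, conj_pow]; simp [mul_assoc]⟩))
    (Subgroup.subset_closure ⟨x, hx, hx2, v, hv, rfl⟩))
  have hqK : (q : K) ≠ 0 := fun h => hq2
    ((Nat.prime_dvd_prime_iff_eq Nat.prime_two hq.out).1 ((CharP.cast_eq_zero_iff K 2 q).1 h))
  haveI := Fintype.ofFinite Q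
  have hK := card_ne_zero_of_pgroup hq.out hqK hQ
  refine cent_of_sec ρ hρ hq2 hQ hcl hexp hP.pg hPQ fun U hU hU0 hUi W _ _ _ φ ε hsec => ?_
  haveI : Nontrivial U := Submodule.nontrivial_iff_ne_bot.2 hU0
  have hcl' : ⁅Q, Q⁆ ≤ radS hU.res := (le_inf der_le hcl).trans cent_le_radS
  let π := QuotientGroup.mk' φ.ker
  have key : ∀ y ∈ 𝒩(Q), (∃ k, y ^ 2 ^ k = 1) → ∃ e k, e + k = n ∧
      (∀ i, y ^ i ∈ stabS hU.res ↔ 2 ^ e ∣ i) ∧ ∀ h : y ^ 2 ^ e ∈ stabS hU.res,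
        π ⟨_, h⟩ ^ 2 ^ (k + 1) = 1 ∧
        (π ⟨_, h⟩ ^ 2 ^ k = 1 ∨ Ex (fth φ) k (π ⟨_, h⟩) (π ⟨_, h⟩ ^ 2 ^ k)) := fun y hy hy' => by
    obtain ⟨e, k, b, hek, hdvd, hb, hbk, hb0⟩ := clifford_at _ hK (rep_cjAut ρ hy)
      Nat.prime_two (by rw [← map_pow, he y hy', map_one]) (cjAut_pow_eq_one _ (he y hy'))
      (h0 y hy') hU hU0 hUi
    rw [cjAut_pow] at hb
    have h1 : (y ^ 2 ^ e) ^ 2 ^ (k + 1) = 1 := by
      rw [← pow_mul, ← pow_add, ← add_assoc, hek, he y hy']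
    exact ⟨e, k, by omega, fun i => (mem_stabS.trans ⟨fun ⟨_, h⟩ => cjAut_pow hy i ▸ h,
      fun h => ⟨_, cjAut_pow hy i ▸ h⟩⟩).trans (hdvd i), fun h => ⟨by
        rw [← map_pow, show (⟨_, h⟩ : stabS hU.res) ^ _ = 1 from Subtype.ext h1, map_one],
        ex_sec hq2 hQ hqK hUi hcl' _ h1 hb hbk hb0 hsec h⟩⟩
  have h2 : P ≤ stabS hU.res := hY ▸ (closure_le _).2 (by
    rintro _ ⟨x, hx, h1, v, hv, rfl⟩
    obtain ⟨e, k, rfl, h3, -⟩ := key x (hNQ hx) h1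
    obtain ⟨e', k', h4, h5, -⟩ := key _ (mul_mem (hPQ hv) (hNQ hx)) (two_elt hP.pg (hNP hx) h1 hv)
    exact mul_mem ((h5 _).2 (pow_dvd_pow 2 (by omega))) (inv_mem ((h3 _).2 (pow_dvd_pow 2 (by omega)))))
  have hP' : Cl (morphim π P) := by
    refine Cl.map (P := P.subgroupOf (stabS hU.res)) ⟨hP.pg.comap_subtype, ?_, fun c hc => ?_⟩ π <;>
      rw [← subgroupOf_commutator h2 h2]
    · exact fun a ha b hb => Subtype.ext (hP.der ha b hb)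
    · exact hP.sq c hc
  have h3 : morphim π P ≤ ⁅morphim π P, morphim π P⁆ := by
    rw [morphim, map_le_iff_le_comap, ← map_le_map_iff_of_injective (stabS hU.res).subtype_injective,
      map_subgroupOf_eq_of_le h2]
    refine hY.ge.trans ((closure_le _).2 ?_)
    rintro _ ⟨x, hx, h1, v, hv, rfl⟩
    obtain ⟨e, k, rfl, h3, h6⟩ := key x (hNQ hx) h1
    obtain ⟨e', k', h4, h5, h7⟩ := key _ (mul_mem (hPQ hv) (hNQ hx)) (two_elt hP.pg (hNP hx) h1 hv)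
    have h8 : ∀ i, (v * x) ^ i ∈ stabS hU.res ↔ x ^ i ∈ stabS hU.res := fun i => by
      rw [← (stabS hU.res).mul_mem_cancel_left (y := x ^ i) (h2 (pow_mul_mem (hNP hx) hv i)),
        inv_mul_cancel_right]
    obtain rfl : e' = e := le_antisymm
      ((Nat.pow_dvd_pow_iff_le_right one_lt_two).1 ((h5 _).1 ((h8 _).2 ((h3 _).2 dvd_rfl))))
      ((Nat.pow_dvd_pow_iff_le_right one_lt_two).1 ((h3 _).1 ((h8 _).1 ((h5 _).2 dvd_rfl))))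
    obtain rfl : k' = k := by omega
    have ha := (h3 _).2 dvd_rfl
    have ha' := (h5 _).2 dvd_rfl
    have hc := pow_mul_mem (hNP hx) hv (2 ^ e')
    have e : π ⟨_, ha'⟩ = π ⟨_, h2 hc⟩ * π ⟨_, ha⟩ := by rw [← map_mul]; congr 1; ext; simp
    have := ll (fth_injective φ) hP' (TUR.im_norm1 π (s := ⟨_, ha⟩) (pow_mem (hNP hx) _))
      (TUR.im_mem π (x := ⟨_, h2 hc⟩) hc) (h6 ha).1 (h6 ha).2 (e ▸ (h7 ha').1) (e ▸ (h7 ha').2)
    refine ⟨⟨_, ha'⟩ ^ 2 ^ k' * (⟨_, ha⟩ ^ 2 ^ k')⁻¹, ?_, by simp [← pow_mul, ← pow_add]⟩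
    rwa [SetLike.mem_coe, mem_comap, map_mul, map_inv, map_pow, map_pow, e]
  have h4 : morphim π P = ⊥ := by_contra fun e =>
    (der_lt_of_solvable (solvable_of_nilpotent hP'.pg.isNilpotent) e).not_ge h3
  exact fun w hw => ⟨h2 hw, (QuotientGroup.eq_one_iff _).1
    (mem_bot.1 (h4 ▸ TUR.im_mem π (x := ⟨w, h2 hw⟩) hw))⟩

end Cfsg.Agent.BR
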