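import Cfsg.Agent.BR.D5
import Cfsg.Agent.BR.L2

/-! Extension of an invariant constituent to a 2-group; the Clifford reduction. -/

set_option autoImplicit false
set_option linter.unusedSectionVars false

namespace Cfsg.Agent.BR

open Subgroup H49 H79 FLAV Module
open scoped commutatorElement

variable {K : Type*} [Field K] [CharP K 2] {V : Type*} [AddCommGroup V] [Module K V]
  [FiniteDimensional K V] [IsAlgClosed K] {U : Type*} [AddCommGroup U] [Module K U]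
  [FiniteDimensional K U] [Nontrivial U] {X : Type*} [Group X] [Finite X] {Q B T : Subgroup X}
  {q k n : ℕ} (ρ : X →* End K V) {σ : Q →* End K U} {f : U →ₗ[K] V}

theorem pull (hf : Function.Injective f) :
    ∃ τ : St ρ (LinearMap.range f) →* End K U, ∀ h v, f (τ h v) = ρ h (f v) := by
  choose g hg using fun (h : St ρ (LinearMap.range f)) v => h.2 (f v) ⟨v, rfl⟩
  exact ⟨⟨⟨fun h => ⟨⟨g h, fun _ _ => hf (by simp [hg])⟩, fun _ _ => hf (by simp [hg])⟩,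
    LinearMap.ext fun v => hf (by simp [hg])⟩, fun a b => LinearMap.ext fun v => hf (by simp [hg])⟩,
    hg⟩

theorem uniq {τ τ' : X →* End K U} (hi : Irr (τ.comp Q.subtype)) (h : ∀ g ∈ Q, τ g = τ' g) {r : X}
    (hr : r ∈ 𝒩(Q)) (h2 : r ^ 2 ^ k = 1) : τ r = τ' r := by
  obtain ⟨c, hc⟩ := hi.schur (τ' r⁻¹ * τ r) fun g => by
    change _ * τ g = τ g * _
    rw [mul_assoc, ← map_mul, ← inv_mul_cancel_right (r * g) r, map_mul τ _ r, h _ (cj_mem hr g.2),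
      h _ g.2, ← mul_assoc, ← mul_assoc, ← map_mul, ← map_mul]
    congr 2; group
  replace hc : τ r = c • τ' r := by
    rw [← one_mul (τ r), ← map_one τ', ← mul_inv_cancel r, map_mul, mul_assoc, hc]; simp
  have h3 := congrArg (· ^ 2 ^ k) hc
  simp only [smul_pow, ← map_pow, h2, map_one] at h3
  replace h3 : c ^ 2 ^ k = 1 := smul_left_injective K one_ne_zero (h3.symm.trans (one_smul _ _).symm)
  rw [← sub_eq_zero, ← one_pow (2 ^ k), ← sub_pow_char_pow, pow_eq_zero_iff (by positivity),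
    sub_eq_zero] at h3
  rw [hc, h3, one_smul]

theorem le_St (hi : ∀ g v, f (σ g v) = ρ g (f v)) : Q ≤ St ρ (LinearMap.range f) := by
  rintro g hg _ ⟨v, rfl⟩
  exact ⟨_, hi ⟨g, hg⟩ v⟩

theorem ext_grp (hσ : Irr σ) (hf : Function.Injective f) (hi : ∀ g v, f (σ g v) = ρ g (f v))
    (hT : IsPGroup 2 T) (hS : T ≤ stabS σ) : ∃ f : U →ₗ[K] V, Function.Injective f ∧
      (∀ g v, f (σ g v) = ρ g (f v)) ∧ T ≤ St ρ (LinearMap.range f) := by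
  obtain ⟨_, ⟨f, hf, hi, rfl⟩, hmax⟩ := (Set.toFinite {R : Subgroup X | ∃ f : U →ₗ[K] V,
    Function.Injective f ∧ (∀ g v, f (σ g v) = ρ g (f v)) ∧
      T ⊓ St ρ (LinearMap.range f) = R}).exists_maximal ⟨_, f, hf, hi, rfl⟩
  refine ⟨f, hf, hi, by_contra fun hne => ?_⟩
  obtain ⟨t, ⟨ht, ht1⟩, ht2⟩ := SetLike.exists_of_lt (lt_inf_norm_of_nilpotent hT.isNilpotent
    (inf_lt_left.2 hne))
  obtain ⟨τ, hτ⟩ := pull ρ hf
  set R := T ⊓ St ρ (LinearMap.range f)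
  have h1 : Q ⊔ R ≤ St ρ (LinearMap.range f) := sup_le (le_St ρ hi) inf_le_right
  let τ₁ := τ.comp (inclusion h1)
  have e1 : ∀ h v, f (τ₁ h v) = ρ h (f v) := fun h v => hτ _ v
  have e2 : ∀ g : Q, τ₁ ⟨g, mem_sup_left g.2⟩ = σ g := fun g =>
    LinearMap.ext fun v => hf (by rw [e1, hi])
  obtain ⟨htQ, j, hj⟩ := mem_stabS.1 (hS ht)
  have hn := inv_sup htQ ht1
  have e3 : Irr (τ₁.comp (Q.subgroupOf (Q ⊔ R)).subtype) := fun W hW =>
    hσ W fun g v hv => e2 g ▸ hW ⟨⟨g, mem_sup_left g.2⟩, g.2⟩ v hv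
  let τ₂ := (j.symm.conjRingEquiv : End K U →* End K U).comp
    (τ₁.comp (cjAut (Q ⊔ R) hn).toMonoidHom)
  have e4 : ∀ g ∈ Q.subgroupOf (Q ⊔ R), τ₁ g = τ₂ g := fun g hg => LinearMap.ext fun v =>
    j.injective (by
      have := hj ⟨g, hg⟩ v
      simp only [← e2] at this
      simpa [τ₂] using (show j (τ₁ g v) = τ₁ (cjAut (Q ⊔ R) hn g) (j v) from this))
  have hα : cjAut (Q ⊔ R) hn ∈ isoStab τ₁ := ⟨j, fun h v => by
    have hRQ : R ≤ 𝒩(Q) := fun r hr => (mem_stabS.1 (hS hr.1)).1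
    obtain ⟨g, hg, r, hr, e⟩ := (mem_sup_of_norm_left hRQ).1 h.2
    obtain ⟨a, ha⟩ := hT ⟨r, hr.1⟩
    have e5 : τ₁ h = τ₂ h := by
      rw [show h = ⟨g, mem_sup_left hg⟩ * ⟨r, mem_sup_right hr⟩ from Subtype.ext e, map_mul, map_mul,
        e4 _ hg, uniq (k := a) e3 e4 (r := ⟨r, mem_sup_right hr⟩) (mem_norm_subgroupOf (hRQ hr))
          (Subtype.ext (congrArg Subtype.val ha :))]
    simp [e5, τ₂]⟩
  obtain ⟨f', b, hf', hi', hb, -⟩ := Irr.exists_ext (σ := τ₁)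
    (fun W hW => hσ W fun g v hv => e2 g ▸ hW _ v hv) (ρ.comp (Q ⊔ R).subtype)
    (f₀ := f) (fun e => not_subsingleton U ⟨fun a b => hf (by simp [e])⟩) e1 hα (rep_cjAut ρ hn)
  refine ht2 (hmax ⟨f', hf', fun g v => by rw [← e2, hi']; rfl, rfl⟩ (le_inf inf_le_left
    (le_sup_right.trans (le_St ρ hi'))) ⟨ht, ?_⟩)
  rintro _ ⟨v, rfl⟩
  exact ⟨_, hb v⟩

/-- The products vanish on the homogeneous component of `σ`. -/
def Hy [Fintype Q] (σ : Q →* End K U) (T : Subgroup X) (m : ℕ) : Prop := ∀ A, Wd ρ T m A →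
  ∀ f : U →ₗ[K] V, (∀ g v, f (σ g v) = ρ g (f v)) → ∀ v, proj σ (ρ.comp Q.subtype) (A (f v)) = 0

theorem cliff [Fintype Q] (hK : (Fintype.card Q : K) ≠ 0) (hσ : Irr σ) (hf : Function.Injective f)
    (hi : ∀ g v, f (σ g v) = ρ g (f v)) (m : ℕ) : ∀ T : Subgroup X, IsPGroup 2 T → T ≤ 𝒩(Q) →
      Hy ρ σ T m → ∃ j k, j + k + 1 = m ∧ dS T j ≤ stabS σ ∧ Hy ρ σ (dS T j) (k + 1) := by
  induction m with
  | zero =>
    intro T _ _ h
    obtain ⟨v, hv⟩ := exists_ne (0 : U)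
    exact absurd (hf ((hσ.eq_zero_of_proj hK _ hi (h 1 .nil f hi v)).trans f.map_zero.symm)) hv
  | succ m ih =>
    intro T hT hn h
    by_cases e : T ≤ stabS σ
    · exact ⟨0, m, by omega, e, h⟩
    obtain ⟨t, ht, h1⟩ := exists_not_mem hT e
    obtain ⟨j, k, h2, h3⟩ := ih ⁅T, T⁆ (hT.to_le der_le) (der_le.trans hn) fun A hA f hi v => by
      have h4 := h _ (hA.cons ht) f hi v
      have h5 := hA.span ((proj σ (ρ.comp Q.subtype)).toAddMonoidHom.comp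
        (LinearMap.applyₗ (ρ t (f v))).toAddMonoidHom) fun b hb => by
          have h6 := hn (mul_mem (der_le hb) ht)
          simpa using hσ.proj_kill _ hi (fun e => h1 b hb (mem_stabS.2 ⟨h6, e⟩)) (rep_cjAut ρ h6) v
      replace h5 : proj σ (ρ.comp Q.subtype) (A (ρ t (f v))) = 0 := h5
      simpa [h5] using h4
    exact ⟨j + 1, k, by omega, dS_der T j ▸ h3⟩

variable [hq : Fact q.Prime]

theorem weil' {H : Subgroup X} (τ : H →* End K U) (hq2 : 2 ≠ q) (hQ : Q ≤ H) (hBH : B ≤ H)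
    (hσ : Irr σ) (h : ∀ g : Q, τ ⟨g, hQ g.2⟩ = σ g) (hcl : ⁅Q, Q⁆ ≤ 𝒞(Q)) (hexp : ∀ u ∈ Q, u ^ q = 1)
    (hB : IsPGroup 2 B) (hBQ : B ≤ 𝒩(Q)) (hV : Van τ (B.subgroupOf H) (k + 1)) :
    (∀ w : H, (w : X) ∈ dS B k → τ w = 1) ∨ k = 1 ∧ ∀ c s : H, (c : X) ∈ B → (s : X) ∈ B →
      c * c * (c * c) = 1 → τ ⁅c, s⁆ = 1 ∨ τ (⁅c, s⁆ * (c * c)⁻¹) = 1 := by
  let π := QuotientGroup.mk' τ.ker
  have hπ : ∀ x, π x = 1 ↔ τ x = 1 := fun x => QuotientGroup.eq_one_iff x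
  refine (weil (Q := morphim π Q) (B := morphim π B) (fth τ) (fth_injective τ) hq2
    (fun W hW => hσ W fun g v hv => h g ▸ hW ⟨_, TUR.im_mem π (x := ⟨g, hQ g.2⟩) g.2⟩ v hv) ?_ ?_
    (hB.comap_subtype.map π) (TUR.im_norm π hBQ) fun A hA => hV A ((Wd.comp_iff π).2 hA)).imp
      (fun e w hw => (hπ w).1 (mem_bot.1 (e.le ?_))) (And.imp_right fun e c s hc hs h4 => ?_)
  · rw [← TUR.im_comm π hQ hQ]
    rintro _ ⟨x, hx, rfl⟩ _ ⟨y, hy, rfl⟩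
    rw [← map_mul, ← map_mul, show y * x = x * y from Subtype.ext (hcl hx y hy)]
  · rintro _ ⟨x, hx, rfl⟩
    rw [← map_pow, show x ^ q = 1 from Subtype.ext (hexp x hx), map_one]
  · rw [← hπ, ← hπ]
    simpa only [map_mul, map_inv, map_commutatorElement, mul_inv_eq_one] using
      e _ (TUR.im_mem π hc) _ (TUR.im_mem π hs) (by simp only [← map_mul, h4, map_one])
  · rw [morphim, ← map_dS]
    rw [← map_subgroupOf_eq_of_le hBH, ← map_dS] at hw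
    obtain ⟨w', h1, h2⟩ := hw
    exact ⟨w', h1, congrArg π (Subtype.ext h2)⟩

/-- The local statement at an irreducible constituent. -/
theorem loc (hq2 : 2 ≠ q) (hQ : IsPGroup q Q) (hσ : Irr σ) (hf : Function.Injective f)
    (hi : ∀ g v, f (σ g v) = ρ g (f v)) (hcl : ⁅Q, Q⁆ ≤ 𝒞(Q)) (hexp : ∀ u ∈ Q, u ^ q = 1)
    (hT : IsPGroup 2 T) (hTQ : T ≤ 𝒩(Q)) (hV : Van ρ T (n + 2)) {M : Subgroup X}
    (hM : ∀ w ∈ stabS σ, (∀ u ∈ Q, ⁅w, u⁆ ∈ radS σ) → w ∈ M) : dS T (n + 1) ≤ M ∨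
      ∀ c ∈ dS T n, ∀ s ∈ dS T n, c * c * (c * c) = 1 → ⁅c, s⁆ ∈ M ∨ ⁅c, s⁆ * (c * c)⁻¹ ∈ M := by
  have hqK : (q : K) ≠ 0 := fun h => hq2
    ((Nat.prime_dvd_prime_iff_eq Nat.prime_two hq.out).1 ((CharP.cast_eq_zero_iff K 2 q).1 h))
  haveI := Fintype.ofFinite Q
  have hK := card_ne_zero_of_pgroup hq.out hqK hQ
  obtain ⟨j, k, h1, h2, h3⟩ := cliff ρ hK hσ hf hi (n + 2) T hT hTQ fun A hA f _ v => by
    simp [hV A hA]
  have hB := hT.to_le (dS_le T j)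
  have hBQ := (dS_le T j).trans hTQ
  obtain ⟨f, hf, hi, h4⟩ := ext_grp ρ hσ hf hi hB h2
  obtain ⟨τ, hτ⟩ := pull ρ hf
  have h5 : ∀ g : Q, τ ⟨g, le_St ρ hi g.2⟩ = σ g := fun g =>
    LinearMap.ext fun v => hf (by rw [hτ, hi])
  have h6 : ∀ w (hw : w ∈ dS T j), τ ⟨w, h4 hw⟩ = 1 → w ∈ M := fun w hw e =>
    hM w (h2 hw) fun u hu => by
      have m : ⁅w, u⁆ ∈ Q := mul_mem (cj_mem (hBQ hw) hu) (inv_mem hu)
      refine (coe_mem_radS (g := ⟨_, m⟩)).2 (mem_rad_of_eq_smul (c := 1) ?_)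
      rw [← h5, one_smul, show (⟨_, le_St ρ hi m⟩ : St ρ _) = ⟨w, h4 hw⟩ * ⟨u, le_St ρ hi hu⟩ *
        ⟨w, h4 hw⟩⁻¹ * ⟨u, le_St ρ hi hu⟩⁻¹ from rfl, map_mul, map_mul, map_mul,
        show τ ⟨w, h4 hw⟩⁻¹ = 1 from τ.ker.inv_mem e, e, one_mul, mul_one, ← map_mul,
        mul_inv_cancel, map_one]
  refine (weil' τ hq2 (le_St ρ hi) h4 hσ h5 hcl hexp hB hBQ (k := k) fun A' hA' => ?_).imp
    (fun e w hw => ?_) ?_
  · obtain ⟨A, h7, h8⟩ := hA'.rel (ρ' := ρ.comp (St ρ _).subtype) (fun A A' => ∀ v, A (f v) = f (A' v))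
      (fun _ => rfl) fun t _ A A' h v => by simp [h, hτ]
    refine LinearMap.ext fun v => hf
      ((hσ.eq_zero_of_proj hK (ρ.comp Q.subtype) hi ?_).trans f.map_zero.symm)
    exact h8 v ▸ h3 A (((Wd.comp_iff _).1 h7).mono (map_subgroupOf_eq_of_le h4).le) f hi v
  · rw [show n + 1 = j + k by omega, dS_add] at hw
    exact h6 w (dS_le _ _ hw) (e _ hw)
  · rintro ⟨rfl, e⟩ c hc s hs h7
    obtain rfl : j = n := by omega
    have m : ⁅c, s⁆ ∈ dS T j := der_le (commutator_mem_commutator hc hs)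
    exact (e ⟨c, h4 hc⟩ ⟨s, h4 hs⟩ hc hs (Subtype.ext h7)).imp (h6 _ m)
      (h6 _ (mul_mem m (inv_mem (mul_mem hc hc))))

end Cfsg.Agent.BR
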