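import Cfsg.Agent.BR.L2
import Cfsg.Agent.TUR.S1
import Cfsg.Agent.H79.PLen2

/-! The choice of a section and the linear form of the bound on the 2-length. -/

set_option autoImplicit false
set_option linter.unusedSectionVars false

namespace Cfsg.Agent.BR

open Subgroup H49 H79 FLAV Module Finset
open scoped commutatorElement

universe u

variable {X : Type u} [Group X] [Finite X] {p n : ℕ}

theorem pLength_prod [Fact p.Prime] {A B : Type*} [Group A] [Group B] [Finite A] [Finite B]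
    (hA : PLengthLE p n A) (hB : PLengthLE p n B) : PLengthLE p n (A × B) := by
  haveI : (MonoidHom.inl A B).range.Normal :=
    ⟨by rintro _ ⟨a, rfl⟩ ⟨g, g'⟩; exact ⟨g * a * g⁻¹, by simp⟩⟩
  haveI : (MonoidHom.inr A B).range.Normal :=
    ⟨by rintro _ ⟨a, rfl⟩ ⟨g', g⟩; exact ⟨g * a * g⁻¹, by simp⟩⟩
  refine top_le_iff.1 fun ⟨a, b⟩ _ => ?_
  simpa using mul_mem (mem_comap.1 (ups_le_comap (MonoidHom.inl A B) _ (hA.ge (mem_top a))))
    (mem_comap.1 (ups_le_comap (MonoidHom.inr A B) _ (hB.ge (mem_top b))))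

theorem exists_res [hp : Fact p.Prime] (hX : Group.IsSolvable X) (hO : pCore p X = ⊥)
    (h : ¬ PLengthLE p n X) : ∃ E : Subgroup X, E.Normal ∧ E ≠ ⊥ ∧ IsPi {p}ᶜ E ∧
      ∀ (Z : Type u) [Group Z] [Finite Z] (π : X →* Z), PLengthLE p n Z → E ≤ π.ker := by
  obtain ⟨_, ⟨Z, _, _, π, h1, rfl⟩, hmin⟩ := (Set.toFinite {M : Subgroup X | ∃ (Z : Type u)
    (_ : Group Z) (_ : Finite Z) (π : X →* Z), PLengthLE p n Z ∧ π.ker = M}).exists_minimal
    ⟨_, PUnit, inferInstance, inferInstance, 1, Subsingleton.elim _ _, rfl⟩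
  have h2 : π.ker ≠ ⊥ := fun e => h (pLength_of_injective π ((MonoidHom.ker_eq_bot_iff π).1 e) h1)
  refine ⟨piCoreOf {p}ᶜ π.ker, normal_iff_top_le_norm.2 (norm_piCoreOf _ le_normalizer_of_normal),
    fun e => fittingOf_ne_bot (solvable_of_le (K := ⊤) inferInstance le_top) h2
      ((fittingOf_eq_pcore e).trans (piCoreOf_map_eq_bot hp.out hO _)), piCoreOf_pi _ _,
    fun Z' _ _ π' h3 => (piCoreOf_le _ _).trans ((hmin ⟨Z × Z', inferInstance, inferInstance,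
      π.prod π', pLength_prod h1 h3, MonoidHom.ker_prod π π'⟩ inf_le_left).trans inf_le_right)⟩

/-- The choice of a section. -/
theorem exists_sel (hX : Group.IsSolvable X) (h : ¬ PLengthLE 2 (n + 1) X) :
    ∃ P N : Subgroup X, Cl P ∧ P ≠ ⊥ ∧ N ≤ 𝒩(P) ∧ (∀ R < P, N ≤ 𝒩(R) → R ≤ ⁅P, P⁆) ∧
      ∀ (Z : Type u) [Group Z] [Finite Z] (π : N →* Z), Function.Surjective π → pCore 2 Z = ⊥ →
        (∀ a, π a = 1 ↔ ∀ u ∈ P, ⁅(a : X), u⁆ ∈ ⁅P, P⁆) → ¬ PLengthLE 2 n Z := by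
  let f := (QuotientGroup.mk' (pCore 2 (X ⧸ pPrimeCore 2 X))).comp (QuotientGroup.mk' _)
  have hf : Function.Surjective f :=
    (QuotientGroup.mk'_surjective _).comp (QuotientGroup.mk'_surjective _)
  have hk : f.ker = pPrimePCore 2 X := by rw [← MonoidHom.comap_ker, QuotientGroup.ker_mk']; rfl
  obtain ⟨E₀, _, h1, h2, h3⟩ := exists_res inferInstance H22.pCore_quotient_pCore
    fun e => h (pLength_succ_of_ker f hk.le e)
  obtain ⟨S, hS⟩ := exists_sylowOf 2 f.ker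
  have sv : ∀ H : Subgroup X, Group.IsSolvable H := fun H => inferInstance
  have f1 : (𝒩(S)).map f = ⊤ := by
    have := congrArg (map f) (frattini_arg le_top le_normalizer_of_normal hS).sup_eq
    rwa [Subgroup.map_sup, map_ker_self, bot_sup_eq, top_inf_eq, map_top_of_surjective f hf] at this
  obtain ⟨E, hE⟩ := exists_hall (sv (𝒩(S) ⊓ E₀.comap f)) {2}ᶜ
  have f2 : E.map f = (𝒩(S) ⊓ E₀.comap f).map f :=
    (hE.map f).eq_self (h2.of_le (map_le_iff_le_comap.2 inf_le_right))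
  have f3 : E₀ ≤ E.map f := fun y hy => by
    obtain ⟨x, hx, rfl⟩ := f1.ge (mem_top y)
    exact f2.ge ⟨x, ⟨hx, hy⟩, rfl⟩
  set N := 𝒩(S) ⊓ 𝒩(E)
  have hEN : E ≤ N := le_inf (hE.le.trans inf_le_left) le_normalizer
  have f4 : N.map f = ⊤ := by
    have := congrArg (map f) (hall_frattini (sv _) inf_le_left
      (norm_inf le_normalizer le_normalizer_of_normal) hE).sup_eq
    rwa [Subgroup.map_sup, ← f2, f1, sup_eq_right.2 (map_mono hEN)] at this
  have hne : ¬ S ≤ 𝒞(E) := fun e => h1 (le_bot_iff.1 (f3.trans ((Subgroup.map_eq_bot_iff _).2 (by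
    rw [hk, ← H50.pPrimePCoreOf_top] at hS ⊢
    exact (le_inf le_top (cent_symm e)).trans
      (cent_le_pPrimePCoreOf Nat.prime_two (sv _) hS))).le))
  obtain ⟨P, ⟨hPS, nP, hP⟩, hmin⟩ := (Set.toFinite {R : Subgroup X | R ≤ S ∧ N ≤ 𝒩(R) ∧
    ¬ R ≤ 𝒞(E)}).exists_minimal ⟨S, le_rfl, inf_le_left, hne⟩
  have hEP : E ≤ 𝒩(P) := hEN.trans nP
  have hPq := hS.pi.of_le hPS
  have hp := hPq.isPGroup Nat.prime_two
  have hco := hE.pi.coprime' hPq
  have key : ∀ R < P, N ≤ 𝒩(R) → R ≤ 𝒞(E) := fun R h h2 => by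
    by_contra h4
    exact h.not_ge (hmin ⟨h.le.trans hPS, h2, h4⟩ h.le)
  have hcm : ⁅P, E⁆ = P := by
    by_contra h
    exact hP (cent_symm (coprime_cent_of_stable hEP hco (.inl (sv _)) (key _ (lt_of_le_of_ne
      (commutator_le_left_of_norm hEP) h) (norm_commutator nP inf_le_right))))
  have hne' : P ≠ ⊥ := fun h => hP (h ▸ bot_le)
  have key' : ∀ R < P, N ≤ 𝒩(R) → R ≤ ⁅P, P⁆ := fun R h h2 =>
    (le_inf h.le (key R h h2)).trans (TUR.cent_le_der hEP hco hcm)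
  have hΦ := H79.frattiniOf_lt hne'
  have nΦ := nP.trans (H50.norm_le_norm_frattiniOf P)
  refine ⟨P, N, ⟨hp, (H50.der_le_frattiniOf hp).trans (cent_symm (hcm.ge.trans
    (H50.commutator_cent_of_cent (cent_symm (key _ hΦ nΦ))
      (le_normalizer.trans (H50.norm_le_norm_frattiniOf P))))), fun c hc => key' _ hΦ nΦ
        (pow_two c ▸ H50.pow_mem_frattiniOf hp hc)⟩, hne', nP, key', fun Z _ _ π hπ hO hπ1 hZ => ?_⟩
  let g := f.comp N.subtype
  have hg : Function.Surjective g := fun y => by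
    obtain ⟨x, hx, rfl⟩ := f4.ge (mem_top y)
    exact ⟨⟨x, hx⟩, rfl⟩
  have hgπ : g.ker ≤ π.ker := by
    rw [← Subgroup.map_eq_bot_iff, eq_bot_iff, ← hO]
    refine H22.le_pCore (Normal.map inferInstance π hπ) ?_
    rintro ⟨_, x, hx, rfl⟩
    obtain ⟨k, hk'⟩ := H22.isPGroup_pCore (⟨_, hk.le hx⟩ : pCore 2 (X ⧸ pPrimeCore 2 X))
    have h4 : (x : X) ^ 2 ^ k ∈ pPrimeCore 2 X :=
      (QuotientGroup.eq_one_iff _).1 (congrArg Subtype.val hk')
    refine ⟨k, Subtype.ext (show π x ^ 2 ^ k = 1 from ?_)⟩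
    rw [← map_pow, hπ1]
    intro u hu
    have h5 : ⁅(x : X) ^ 2 ^ k, u⁆ ∈ pPrimeCore 2 X ⊓ P := mem_inf.2 ⟨by
      simpa [commutatorElement_def, mul_assoc] using
        mul_mem h4 (Normal.conj_mem inferInstance _ (inv_mem h4) u),
      mul_mem (cj_mem (pow_mem (nP x.2) _) hu) (inv_mem hu)⟩
    rw [H49.inf_eq_bot_of_coprime (H50.coprime_card_of_pgroup hp H22.coprime_card_pPrimeCore)] at h5
    exact (mem_bot.1 h5).symm ▸ one_mem _
  have h6 := h3 Z (g.liftOfRightInverse _ (Function.rightInverse_surjInv hg) ⟨π, hgπ⟩) hZ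
  refine (der_lt_of_solvable (sv P) hne').not_ge (hcm.ge.trans (commutator_comm E P ▸
    commutator_le.2 fun a ha => (hπ1 ⟨a, hEN ha⟩).1 ?_))
  exact (g.liftOfRightInverse_comp_apply _ _ ⟨π, hgπ⟩ ⟨a, hEN ha⟩).symm.trans (h6 (hE.le ha).2)

/-- A critical subgroup on which a given 2-group acts nontrivially. -/
theorem exists_crit (hX : Group.IsSolvable X) (hO : pCore 2 X = ⊥) {P : Subgroup X}
    (hP : IsPGroup 2 P) (h : P ≠ ⊥) : ∃ (q : ℕ) (Q : Subgroup X), q.Prime ∧ 2 ≠ q ∧ IsPGroup q Q ∧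
      ⁅Q, Q⁆ ≤ 𝒞(Q) ∧ (∀ u ∈ Q, u ^ q = 1) ∧ (∀ g, g ∈ 𝒩(Q)) ∧ ¬ P ≤ 𝒞(Q) := by
  by_contra hne
  have h1 : fittingOf (⊤ : Subgroup X) ≤ 𝒞(P) := by
    refine nilpotent_le_of_pcore (fittingOf_nil _) fun q hq _ => ?_
    haveI := Fact.mk hq
    rw [pcore_fittingOf]
    rcases eq_or_ne (piCoreOf {q} ⊤) (⊥ : Subgroup X) with hR | hR
    · exact hR.le.trans bot_le
    have hq2 : 2 ≠ q := fun e => hR (e ▸ piCoreOf_map_eq_bot Nat.prime_two hO ⊤)
    have hRq := (piCoreOf_pi {q} (⊤ : Subgroup X)).isPGroup hq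
    obtain ⟨Q, hQR, -, hn, hcl, hexp, hc⟩ := BG.l1_13 hq2.symm hRq hR
    have hRN : ∀ g : X, g ∈ 𝒩(piCoreOf {q} ⊤) := fun g =>
      norm_piCoreOf (A := ⊤) _ le_normalizer_of_normal trivial
    refine cent_symm fun w hw => ?_
    obtain ⟨j, hj⟩ := hP ⟨w, hw⟩
    refine hc w (hRN w) (coprime_orderOf_of_pow (congrArg Subtype.val hj)
      ((Nat.coprime_primes hq Nat.prime_two).2 hq2.symm)) (by_contra fun e => hne ?_)
    exact ⟨q, Q, hq, hq2, hRq.to_le hQR, ((commutator_mono le_rfl hQR).trans hcl).trans inf_le_right,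
      hexp, fun g => hn (hRN g), fun e' => e (e' hw)⟩
  have h3 := nilpotent_le_piCoreOf (fittingOf_nil _) ((le_inf le_top (cent_symm h1)).trans
    (cent_fittingOf_le (H := ⊤) inferInstance)) (isPi_of_isPGroup Nat.prime_two hP)
  rw [pcore_fittingOf, piCoreOf_map_eq_bot Nat.prime_two hO] at h3
  exact h (le_bot_iff.1 h3)

/-- The linear form of the bound. -/
theorem lin (n : ℕ) : ∀ (X : Type u) [Group X] [Finite X] (V : Type u) [AddCommGroup V]
    [Module (AlgebraicClosure (ZMod 2)) V] [FiniteDimensional (AlgebraicClosure (ZMod 2)) V]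
    (ρ : X →* End (AlgebraicClosure (ZMod 2)) V), Function.Injective ρ → Group.IsSolvable X →
      pCore 2 X = ⊥ → (∀ y : X, (∃ k, y ^ 2 ^ k = 1) → ∑ i ∈ range (2 ^ (n + 1)), ρ y ^ i = 0) →
        PLengthLE 2 n X := by
  induction n with
  | zero =>
    intro X _ _ V _ _ _ ρ hρ _ _ h0
    refine PExp.pLength_zero fun y hy => hρ ?_
    have := h0 y hy
    rw [geom_sum_char (K := AlgebraicClosure (ZMod 2))] at this
    simpa [sub_eq_zero] using this
  | succ n ih =>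
    intro X _ _ V _ _ _ ρ hρ hX hO h0
    by_contra h
    obtain ⟨P, N, hP, hP0, nP, hmin, hZ⟩ := exists_sel hX h
    obtain ⟨q, Q, hq, hq2, hQ, hcl, hexp, nQ, hPQ⟩ := exists_crit hX hO hP.pg hP0
    haveI := Fact.mk hq
    obtain ⟨Z, _, _, π, W, _, _, _, σ, hπ, hσ, h1, h2, -, h3⟩ := exists_sec_lin (r := 2) N.subtype
      (U := P) (W := ⁅P, P⁆) (fun a => nP a.2) (fun a => inv_comm (nP a.2) (nP a.2)) der_le le_rfl
      fun u hu => pow_two u ▸ hP.sq u hu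
    have h4 := h3 fun L h5 h6 h7 => (h6.eq_or_lt.imp_right
      fun e => le_antisymm (hmin L e fun a ha => h7 ⟨a, ha⟩) h5).symm
    haveI := solvable_of_surjective hπ
    refine hZ Z π hπ h4 h1 (ih Z W σ hσ inferInstance h4 ?_)
    rintro y ⟨k, hk⟩
    obtain ⟨x, rfl⟩ := hπ y
    obtain ⟨x, -, e, j, hj⟩ := exists_pElt_lift π hk
    rw [← e, h2]
    intro v hv
    by_contra hy
    exact hPQ (ml ρ hρ h0 hq2 hQ hcl hexp hP (fun g _ => nQ g) (fun g _ => nQ g) nP hmin x.2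
      ⟨j, congrArg Subtype.val hj⟩ hv hy)

end Cfsg.Agent.BR
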