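import Cfsg.Agent.BR.D6
import Cfsg.Agent.BR.S1

/-! The linear form of the bound of the 2-length by the derived length. -/

set_option autoImplicit false
set_option linter.unusedSectionVars false

namespace Cfsg.Agent.BR

open Subgroup H49 H79 FLAV Module
open scoped commutatorElement

universe u v

/-- Iterated commutators of `P` with the derived series of `S`. -/
def cmS {G : Type*} [Group G] (S P : Subgroup G) : ℕ → Subgroup G
  | 0 => P
  | i + 1 => ⁅dS S i, cmS S P i⁆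

theorem map_cmS {G G' : Type*} [Group G] [Group G'] (f : G →* G') (S P : Subgroup G) (i : ℕ) :
    (cmS S P i).map f = cmS (S.map f) (P.map f) i := by
  induction i with
  | zero => rfl
  | succ i ih => rw [cmS, cmS, map_commutator, ih, map_dS]

theorem cmS_le {G : Type*} [Group G] {S P : Subgroup G} (h : S ≤ 𝒩(P)) (i : ℕ) :
    cmS S P i ≤ P ⊓ dS (P ⊔ S) i := by
  induction i with
  | zero => exact le_inf le_rfl le_sup_left
  | succ i ih =>
    exact le_inf ((commutator_mono (dS_le S i) (ih.trans inf_le_left)).trans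
      (commutator_le_right_of_norm h))
      (commutator_mono (dS_mono le_sup_right i) (ih.trans inf_le_right))

theorem cmS_mono {G : Type*} [Group G] {S S' P : Subgroup G} (h : S ≤ S') (i : ℕ) :
    cmS S P i ≤ cmS S' P i := by
  induction i with
  | zero => exact le_rfl
  | succ i ih => exact commutator_mono (dS_mono h i) ih

theorem Van.ring {G R R' : Type*} [Group G] [Ring R] [Ring R'] {ρ : G →* R} {S : Subgroup G} {m : ℕ}
    (h : Van ρ S m) (Ψ : R →+* R') : Van (Ψ.toMonoidHom.comp ρ) S m := fun A hA => by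
  obtain ⟨A', h1, rfl⟩ := hA.rel (ρ' := ρ) (fun A' A => Ψ A' = A) Ψ.map_one
    fun t _ A' A e => by simp [← e]
  rw [h A' h1, map_zero]

theorem ml' {K : Type*} [Field K] {V : Type*} [AddCommGroup V] [Module K V] [IsAlgClosed K]
    [FiniteDimensional K V] [CharP K 2] {X : Type u} [Group X] [Finite X]
    (ρ : X →* End K V) (hρ : Function.Injective ρ) {n : ℕ}
    (h0 : ∀ T : Subgroup X, IsPGroup 2 T → Van ρ T (n + 2))
    {Q P N : Subgroup X} {q : ℕ} [hq : Fact q.Prime] (hq2 : 2 ≠ q) (hQ : IsPGroup q Q)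
    (hcl : ⁅Q, Q⁆ ≤ 𝒞(Q)) (hexp : ∀ u ∈ Q, u ^ q = 1) (hP : Cl P) (hPQ : P ≤ 𝒩(Q)) (hNQ : N ≤ 𝒩(Q))
    (hNP : N ≤ 𝒩(P)) (hmin : ∀ R < P, N ≤ 𝒩(R) → R ≤ ⁅P, P⁆) {S : Subgroup X} (hS : S ≤ N)
    (hS2 : IsPGroup 2 S) (hy : ¬ cmS S P (n + 1) ≤ ⁅P, P⁆) : P ≤ 𝒞(Q) := by
  let Y : Set X := {y | ∃ S ≤ N, IsPGroup 2 S ∧ y ∈ cmS S P (n + 1)}
  have hYP : Subgroup.closure Y ≤ P := (closure_le _).2 (by
    rintro _ ⟨S, hS, -, h⟩; exact (cmS_le (hS.trans hNP) _ h).1)
  have hY : Subgroup.closure Y = P := by_contra fun e => hy fun y hy => hmin _ (lt_of_le_of_ne hYP e)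
    (fun g hg => mem_norm_of_cj_le (by
      rw [cj_def, MonoidHom.map_closure, closure_le]
      rintro _ ⟨y, ⟨S, hS, h1, h2⟩, rfl⟩
      refine Subgroup.subset_closure ⟨H49.cj g S, H49.cj_le_of_mem hS hg, h1.map _, ?_⟩
      rw [← cj_eq_of_mem_norm (hNP hg), cj_def, cj_def, ← map_cmS]
      exact mem_map_of_mem _ h2))
    (Subgroup.subset_closure ⟨S, hS, hS2, hy⟩)
  refine cent_of_sec ρ hρ hq2 hQ hcl hexp hP.pg hPQ fun U hU hU0 hUi W _ _ _ φ ε hsec => ?_
  haveI : Nontrivial U := Submodule.nontrivial_iff_ne_bot.2 hU0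
  let M := φ.ker.map (stabS hU.res).subtype
  have h1 : P ⊓ M = P := H23.eq_of_sup_der_pgroup hP.pg inf_le_left (hY.ge.trans
    ((closure_le _).2 ?_))
  · intro w hw
    obtain ⟨w, h2, rfl⟩ := (h1.ge hw).2
    exact ⟨w.2, h2⟩
  rintro y ⟨S, hS, hS2, h2⟩
  have h3 := cmS_le (hS.trans hNP)
  rcases loc ρ hq2 hQ hUi U.injective_subtype (fun _ _ => rfl) hcl hexp
    (hP.pg.to_sup_of_normal_left' hS2 (hS.trans hNP)) (sup_le hPQ (hS.trans hNQ))
    (h0 _ (hP.pg.to_sup_of_normal_left' hS2 (hS.trans hNP))) (M := M)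
    (fun w hw h => ⟨⟨w, hw⟩, (hsec.eq_one_iff _).2 h, rfl⟩) with e | e
  · exact mem_sup_left ⟨(h3 _ h2).1, e (h3 _ h2).2⟩
  refine (commutator_le (H₃ := P ⊓ M ⊔ ⁅P, P⁆)).2 (fun s hs c hc => ?_) h2
  have h4 := (h3 n hc).1
  have h5 : ⁅c, s⁆ ∈ P := by
    simpa [commutatorElement_def, mul_assoc] using
      mul_mem h4 (cj_mem (hNP (hS (dS_le S n hs))) (inv_mem h4))
  rw [← commutatorElement_inv, inv_mem_iff]
  rcases e c (h3 n hc).2 s (dS_mono le_sup_right n hs) (hP.der_sq (hP.sq c h4)) with e | e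
  · exact mem_sup_left ⟨h5, e⟩
  · simpa only [inv_mul_cancel_right] using mul_mem (mem_sup_left (mem_inf.2 ⟨mul_mem h5 (inv_mem (mul_mem h4 h4)), e⟩))
      (mem_sup_right (hP.sq c h4))

theorem exists_sec_van {G : Type v} [Group G] {A : Type u} [Group A] [Finite G] [Finite A] {r : ℕ}
    [Fact r.Prime] (φ : A →* G) {U W : Subgroup G} (hU : ∀ a, φ a ∈ 𝒩(U)) (hW : ∀ a, φ a ∈ 𝒩(W))
    (hWU : W ≤ U) (hab : ⁅U, U⁆ ≤ W) (hexp : ∀ u ∈ U, u ^ r ∈ W) :
    ∃ (Z : Type u) (_ : Group Z) (_ : Finite Z) (π : A →* Z) (V : Type v) (_ : AddCommGroup V)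
      (_ : Module (AlgebraicClosure (ZMod r)) V)
      (_ : FiniteDimensional (AlgebraicClosure (ZMod r)) V)
      (ρ : Z →* End (AlgebraicClosure (ZMod r)) V), Function.Surjective π ∧ Function.Injective ρ ∧
      (∀ a, π a = 1 ↔ ∀ u ∈ U, ⁅φ a, u⁆ ∈ W) ∧
      (∀ (S : Subgroup A) m, cmS (S.map φ) U m ≤ W → Van ρ (S.map π) m) ∧
      ((∀ L, W ≤ L → L ≤ U → (∀ a, φ a ∈ 𝒩(L)) → L = W ∨ L = U) → pCore r Z = ⊥) := by
  obtain ⟨V, _, _, _, ρ, e, h⟩ := exists_secRep φ hU hW hWU hab hexp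
  obtain ⟨Ψ, hΨ⟩ := exists_baseChange (ZMod r) V
  refine ⟨A ⧸ ρ.ker, inferInstance, inferInstance, QuotientGroup.mk' _, _, inferInstance,
    inferInstance, inferInstance, Ψ.toMonoidHom.comp (fth ρ), QuotientGroup.mk'_surjective _,
    hΨ.comp (fth_injective ρ), fun a => (QuotientGroup.eq_one_iff a).trans (h.eq_one_iff a),
    fun S m hm => ?_, fun hc => ?_⟩
  · suffices h0 : Van (fth ρ) (S.map (QuotientGroup.mk' _)) m from h0.ring (R' := End
      (AlgebraicClosure (ZMod r)) (TensorProduct (ZMod r) (AlgebraicClosure (ZMod r)) V)) Ψ.toRingHom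
    refine fun B hB => LinearMap.ext fun v => ?_
    have h1 : S.map φ ≤ 𝒩(U) := by rintro _ ⟨a, -, rfl⟩; exact hU a
    have h2 : ∀ m B, Wd ρ S m B → ∀ u ∈ U, ∃ u' ∈ cmS (S.map φ) U m, B (e u) = e u' :=
      fun m B hB u hu => by
        induction hB with
        | nil => exact ⟨u, hu, rfl⟩
        | snoc _ h3 ih =>
          obtain ⟨u', h4, h5⟩ := ih
          exact ⟨_, commutator_mem_commutator (map_dS φ S _ ▸ mem_map_of_mem φ h3) h4, by
            rw [End.mul_apply, h5, h.sub_one_apply _ (cmS_le h1 _ h4).1]⟩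
    obtain ⟨u, hu, rfl⟩ := h.surj v
    obtain ⟨u', h3, h4⟩ := h2 m B ((Wd.comp_iff _).2 hB) u hu
    exact h4.trans ((h.zero _ (cmS_le h1 _ h3).1).2 (hm h3))
  have := (h.irr hc).fth.pgroup_le_ker (R := pCore r _) H22.isPGroup_pCore
  rwa [(MonoidHom.ker_eq_bot_iff _).2 (fth_injective ρ), le_bot_iff] at this

theorem Van.mono {G R : Type*} [Group G] [Ring R] {ρ : G →* R} {S T : Subgroup G} {m : ℕ}
    (h : Van ρ T m) (hS : S ≤ T) : Van ρ S m := fun A hA => h A (hA.mono hS)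

/-- The linear form of the bound. -/
theorem lin' (n : ℕ) : ∀ (X : Type u) [Group X] [Finite X] (V : Type u) [AddCommGroup V]
    [Module (AlgebraicClosure (ZMod 2)) V] [FiniteDimensional (AlgebraicClosure (ZMod 2)) V]
    (ρ : X →* End (AlgebraicClosure (ZMod 2)) V), Function.Injective ρ → Group.IsSolvable X →
      pCore 2 X = ⊥ → (∀ T : Subgroup X, IsPGroup 2 T → Van ρ T (n + 1)) → PLengthLE 2 n X := by
  induction n with
  | zero =>
    intro X _ _ V _ _ _ ρ hρ _ _ h0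
    refine PExp.pLength_zero fun y ⟨k, hk⟩ => hρ ?_
    simpa [sub_eq_zero] using h0 (zpowers y) (fun ⟨_, i, rfl⟩ => ⟨k, Subtype.ext
      (show (y ^ i) ^ 2 ^ k = 1 by
        rw [← zpow_natCast, ← zpow_mul, mul_comm, zpow_mul, zpow_natCast, hk, one_zpow])⟩) _
        (Wd.nil.snoc (k := 0) (mem_zpowers y))
  | succ n ih =>
    intro X _ _ V _ _ _ ρ hρ hX hO h0
    by_contra h
    obtain ⟨P, N, hP, hP0, nP, hmin, hZ⟩ := exists_sel hX h
    obtain ⟨q, Q, hq, hq2, hQ, hcl, hexp, nQ, hPQ⟩ := exists_crit hX hO hP.pg hP0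
    haveI := Fact.mk hq
    obtain ⟨Z, _, _, π, W, _, _, _, σ, hπ, hσ, h1, h2, h3⟩ := exists_sec_van (r := 2) N.subtype
      (U := P) (W := ⁅P, P⁆) (fun a => nP a.2) (fun a => inv_comm (nP a.2) (nP a.2)) der_le le_rfl
      fun u hu => pow_two u ▸ hP.sq u hu
    have h4 := h3 fun L h5 h6 h7 => (h6.eq_or_lt.imp_right
      fun e => le_antisymm (hmin L e fun a ha => h7 ⟨a, ha⟩) h5).symm
    haveI := solvable_of_surjective hπ
    refine hZ Z π hπ h4 h1 (ih Z W σ hσ inferInstance h4 fun T hT => ?_)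
    obtain ⟨S, hS, hTS⟩ := exists_pgroup_map_eq π hπ hT
    exact (h2 S _ (by_contra fun hy => hPQ (ml' ρ hρ h0 hq2 hQ hcl hexp hP (fun g _ => nQ g)
      (fun g _ => nQ g) nP hmin (map_subtype_le S) (hS.map _) hy))).mono hTS

theorem Red.van {G : Type u} [Group G] [Finite G] (h : Red 2 G) {d : ℕ}
    (hd : ∀ T : Subgroup G, IsPGroup 2 T → dS T d = ⊥) (T : Subgroup (G ⧸ pCore 2 G))
    (hT : IsPGroup 2 T) : Van h.rep T d := fun A hA => LinearMap.ext fun v => by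
  let π := QuotientGroup.mk' (pCore 2 G)
  have h1 : IsPGroup 2 (T.comap π) := hT.comap_of_ker_isPGroup π
    (by rw [QuotientGroup.ker_mk']; exact H22.isPGroup_pCore)
  have h2 : ∀ m B, Wd (h.rep.comp π) (T.comap π) m B → H21.EA.val (B v) ∈ dS (T.comap π) m :=
    fun m B hB => by
      induction hB with
      | nil => exact (QuotientGroup.ker_mk' _).ge.trans (ker_le_comap π T) (H21.EA.val_mem v)
      | snoc _ h3 ih => exact (val_nrep_sub_one h.ea _ _).symm ▸ commutator_mem_commutator h3 ih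
  rw [← map_comap_eq_self_of_surjective (QuotientGroup.mk'_surjective _) T] at hA
  exact H21.EA.val_eq_one.1 (mem_bot.1 (hd _ h1 ▸ h2 d A ((Wd.comp_iff π).2 hA)))

end Cfsg.Agent.BR
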