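import Cfsg.Agent.H79.PLen2
import Cfsg.Agent.H54.FT

/-! Finite 2-soluble groups are soluble. -/

set_option autoImplicit false

namespace Cfsg.Agent.BR

open Subgroup H49

theorem solvable_of_two {G : Type*} [Group G] [Finite G] (hG : IsPSolvable 2 G) :
    Group.IsSolvable G := by
  obtain ⟨n, H, h0, h1, hm, hn, h⟩ := hG
  have key : ∀ i, Group.IsSolvable (H i) := fun i => by
    induction i using Fin.induction with
    | zero => rw [h0]; infer_instance
    | succ i ih =>
      haveI := hn i.castSucc
      have hle : H i.castSucc ≤ H i.succ := hm Fin.castSucc_lt_succ.le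
      haveI : Group.IsSolvable ((H i.castSucc).subgroupOf (H i.succ)) := solvable_subgroupOf ih _
      haveI : Group.IsSolvable (H i.succ ⧸ (H i.castSucc).subgroupOf (H i.succ)) := by
        rcases h i with ⟨m, e⟩ | e
        · haveI := (IsPGroup.of_card (p := 2) e).isNilpotent; infer_instance
        · exact H54.odd_order_solvable (Nat.coprime_two_right.1 e)
      exact solvable_of_ker_le_range ((H i.castSucc).subgroupOf (H i.succ)).subtype
        (QuotientGroup.mk' ((H i.castSucc).subgroupOf (H i.succ))) (by simp)
  haveI := key (Fin.last n)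
  exact solvable_of_surjective (f := (H (Fin.last n)).subtype) fun g => ⟨⟨g, h1.ge trivial⟩, rfl⟩

end Cfsg.Agent.BR
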